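import Cfsg.Agent.PermutationGroups.AutQuaternion
import Mathlib.GroupTheory.OrderOfElement

/-!
# Brute-force facts about the automorphisms of the quaternion group of order 8
-/

set_option autoImplicit false

namespace Cfsg.Agent.H334.AutQEight

open QuaternionGroup Cfsg.Agent.PermutationGroups.AutQuaternion

/-- the exponent facts: every automorphism has order 1, 2, 3 or 4 -/
theorem cand_order : ∀ x y : QuaternionGroup 2, good x y = true →
    (∀ g, cand x y (cand x y (cand x y g)) = g) ∨
      (∀ g, cand x y (cand x y (cand x y (cand x y g))) = g) := by
  decide +kernel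

/-- `(p, q, u)` is a good triple for the automorphism given by `(x, y)` -/
def trip (x y p q u : QuaternionGroup 2) : Bool :=
  good p q && decide (u * u = a 2) && decide (cand x y u * u = 1) &&
    decide (cand p q u * cand p q u = a 2) &&
    decide (cand p q u * u = a 2 * (u * cand p q u)) &&
    decide (cand p q (cand p q u) = u * cand p q u) &&
    decide (∀ g, cand p q (cand p q (cand p q g)) = g) &&
    decide (∀ g, cand p q (cand x y (cand p q g)) = cand x y g)

theorem exists_trip : ∀ x y : QuaternionGroup 2, good x y = true →
    (∀ g, cand x y (cand x y g) = g) → (∀ w, ∃ g, cand x y g * w ≠ w * g) →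
    ∃ p q u : QuaternionGroup 2, trip x y p q u = true := by
  decide +kernel

end Cfsg.Agent.H334.AutQEight
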