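import Cfsg.Agent.H794.AbIrrRows
import Cfsg.Agent.H104.IrrSL
import Cfsg.Agent.H104.IrrSU
import Cfsg.Agent.H104.IrrSp
import Cfsg.Agent.H104.IrrPOmega
import Cfsg.Agent.H795.SplitRow
import Cfsg.Agent.H800.Sp.All

/-!
# The classical rows of `AbIrr`, and `AbIrr 3` for the known simple groups
-/

set_option autoImplicit false

open Subgroup

universe u

namespace Cfsg.Agent.H334.ABRow

open Cfsg Cfsg.Agent.H795

theorem abIrr_of_equiv {G : Type*} {H : Type*} [Group G] [Group H] [Finite G] [Finite H] {p : ℕ} [hp : Fact p.Prime]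
    (e : G ≃* H) (h : AbIrr p H) : AbIrr p G := by
  intro S hS B hBS hBp hBn
  -- the image of `S`
  let T : Sylow p H := S.mapSurjective (f := e.toMonoidHom) e.surjective
  have hT : (T : Subgroup H) = (S : Subgroup G).map e.toMonoidHom := rfl
  have hTc : IsMulCommutative (T : Subgroup H) := by
    constructor
    constructor
    rintro ⟨_, a, ha, rfl⟩ ⟨_, b, hb, rfl⟩
    apply Subtype.ext
    show e a * e b = e b * e a
    rw [← map_mul, ← map_mul]
    congr 1
    exact congrArg Subtype.val (hS.is_comm.comm (⟨a, ha⟩ : (S : Subgroup G)) ⟨b, hb⟩)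
  rcases h T hTc (B.map e.toMonoidHom) (by rw [hT]; exact Subgroup.map_mono hBS) (by
      rintro _ ⟨b, hb, rfl⟩
      show e b ^ p = 1
      rw [← map_pow, hBp b hb, map_one]) (by
      rintro n hn _ ⟨b, hb, rfl⟩
      have hn' : e.symm n ∈ normalizer ((S : Subgroup G) : Set G) := by
        rw [mem_normalizer_iff] at hn ⊢
        intro y
        have h1 := hn (e y)
        have h2 : ∀ z : G, z ∈ (S : Subgroup G) ↔ e z ∈ (T : Subgroup H) := by
          intro z
          rw [hT]
          constructor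
          · exact fun hz => ⟨z, hz, rfl⟩
          · rintro ⟨w, hw, hwz⟩
            have : w = z := e.injective hwz
            exact this ▸ hw
        rw [h2, h1, h2, map_mul, map_mul, map_inv, MulEquiv.apply_symm_apply]
      refine ⟨e.symm n * b * (e.symm n)⁻¹, hBn _ hn' b hb, ?_⟩
      show e (e.symm n * b * (e.symm n)⁻¹) = n * e b * n⁻¹
      rw [map_mul, map_mul, map_inv, MulEquiv.apply_symm_apply]) with h1 | h1
  · left
    rw [eq_bot_iff]
    intro b hb
    have h2 : e b ∈ B.map e.toMonoidHom := ⟨b, hb, rfl⟩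
    rw [h1, mem_bot] at h2
    exact mem_bot.2 ((map_eq_one_iff e e.injective).1 h2)
  · right
    intro x hx hxp
    obtain ⟨y, hy, hyx⟩ := h1 (e x) (by rw [hT]; exact ⟨x, hx, rfl⟩) (by rw [← map_pow, hxp, map_one])
    have : y = x := e.injective hyx
    exact this ▸ hy

theorem cast_ne_zero {F : Type} [Field F] [Finite F] {r p : ℕ} [hp : Fact p.Prime] [hr : CharP F r] (h : p ≠ r) :
    (p : F) ≠ 0 := by
  intro h0
  have h1 : r ∣ p := (CharP.cast_eq_zero_iff F r p).1 h0
  have h2 : r ≠ 1 := CharP.char_ne_one F r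
  exact h (((Nat.dvd_prime hp.out).1 h1).resolve_left h2).symm

/-- **The classical rows.** -/
theorem classRow : H794.AbIrrRows.ClassRow.{u} := by
  intro r p hp G _ _ _ hp2 hpr h
  rcases h with h | h | h | h | h | h
  · obtain ⟨F, _, _, hc, n, hn, -, ⟨e⟩⟩ := h
    have hpF : (p : F) ≠ 0 := cast_ne_zero hpr
    have : Finite (Matrix.ProjectiveSpecialLinearGroup (Fin n) F) := Quotient.finite _
    refine abIrr_of_equiv e ?_
    by_cases hq : p ∣ Fintype.card F - 1
    · exact (H795.Split.psl_split hp2 hq hn).1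
    · exact (H104.IrrSL.psl_main hpF hq (by omega)).1
  · obtain ⟨F, _, _, hc, n, hn, -, ⟨e⟩⟩ := h
    have hpF : (p : F) ≠ 0 := cast_ne_zero hpr
    have : Finite (PSp n F) := Quotient.finite _
    exact abIrr_of_equiv e (H104.IrrSp.psp_main hp2 hpF (by omega)).1
  · obtain ⟨F, _, _, hc, n, q, hF, hn, -, ⟨e⟩⟩ := h
    have hpF : (p : F) ≠ 0 := cast_ne_zero hpr
    have : Finite (PSU n F q) := Quotient.finite _
    refine abIrr_of_equiv e ?_
    by_cases hq : p ∣ q + 1
    · exact (H795.Split.psu_split hF hp2 hq hn).1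
    · exact (H104.IrrSU.psu_main hF hpF hq hn).1
  · obtain ⟨F, _, _, hc, m, hm, hodd, ⟨e⟩⟩ := h
    have hpF : (p : F) ≠ 0 := cast_ne_zero hpr
    have : Finite (POmega F (quadFormOdd m F)) := Quotient.finite _
    have h2 : (2 : F) ≠ 0 := by
      intro h0
      have hr2 : r ∣ 2 := (CharP.cast_eq_zero_iff F r 2).1 (by exact_mod_cast h0)
      have hr1 : r ≠ 1 := CharP.char_ne_one F r
      have hr2' : r = 2 := ((Nat.dvd_prime Nat.prime_two).1 hr2).resolve_left hr1
      subst hr2'
      have : Fact (Nat.Prime 2) := ⟨Nat.prime_two⟩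
      obtain ⟨n, -, hn⟩ := FiniteField.card F 2
      rw [hn] at hodd
      exact Nat.not_even_iff_odd.2 hodd (Nat.even_pow.2 ⟨even_two, n.ne_zero⟩)
    exact abIrr_of_equiv e (H104.IrrPOmega.odd_main hm h2 hp2 hpF).1
  · obtain ⟨F, _, _, hc, m, hm, ⟨e⟩⟩ := h
    have hpF : (p : F) ≠ 0 := cast_ne_zero hpr
    have : Finite (POmega F (quadFormPlus m F)) := Quotient.finite _
    exact abIrr_of_equiv e (H104.IrrPOmega.plus_main hm hp2 hpF).1
  · obtain ⟨F, _, _, hc, m, a, b, hm, hab, ⟨e⟩⟩ := h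
    have hpF : (p : F) ≠ 0 := cast_ne_zero hpr
    have : Finite (POmega F (quadFormMinus (m - 1) F a b)) := Quotient.finite _
    exact abIrr_of_equiv e (H104.IrrPOmega.minus_main hm a b hab hp2 hpF).1

/-- **Known simple groups, `p` odd, without the Monster at 13.** -/
theorem abIrr_odd {G : Type u} [Group G] [Finite G] [IsSimpleGroup G] (hna : ¬ IsMulCommutative G)
    (hk : IsKnownSimple' G) {p : ℕ} [hp : Fact p.Prime] (hp2 : p ≠ 2) (hM : ¬ (p = 13 ∧ Spor.IsoM G)) :
    AbIrr p G := by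
  rcases PreUniq.known_cases hk with h | h | ⟨r, hr, h⟩ | h | h
  · exfalso
    apply hna
    have hf : Fact (Nat.card G).Prime := ⟨h⟩
    have hc : IsCyclic G := isCyclic_of_prime_card rfl
    exact IsCyclic.isMulCommutative
  · exact H794.abIrr_of_full (H794.full_alt hp2 h)
  · by_cases hpr : p = r
    · subst hpr
      exact H794.DefAb.abIrr_def hp2 hna h
    rcases h with h | h | h | h | h | h | h | h | ⟨rfl, h⟩ | ⟨rfl, h⟩ | ⟨rfl, h⟩
    · exact classRow r p G hp2 hpr (Or.inl h)
    · exact classRow r p G hp2 hpr (Or.inr (Or.inl h))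
    · exact classRow r p G hp2 hpr (Or.inr (Or.inr (Or.inl h)))
    · exact classRow r p G hp2 hpr (Or.inr (Or.inr (Or.inr (Or.inl h))))
    · exact classRow r p G hp2 hpr (Or.inr (Or.inr (Or.inr (Or.inr (Or.inl h)))))
    · exact classRow r p G hp2 hpr (Or.inr (Or.inr (Or.inr (Or.inr (Or.inr h)))))
    · exact (ExcRow.chev h hp2 hpr).1
    · exact (ExcRow.tw h hp2 hpr).1
    · exact H42.Tw.abIrr_suz h hp2
    · exact H42.Tw.abIrr_twF4 h hp2
    · refine H42.Tw.abIrr_ree h ?_
      have h2 := hp.out.two_le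
      omega
  · exact H800.Sp.abIrr_tits hp2 h
  · exact H800.Sp.abIrr_spor h hp2 hM

end Cfsg.Agent.H334.ABRow
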