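import Mathlib

/-!
# Cocycles on finite sets with a group action (a form of the transfer)

`N : K → Y → B` with `N (g * h) y = N g (h • y) * N h y`.  For a subgroup `H` of `G` and
`φ : H →* B` there is such a cocycle on `G ⧸ H` extending `φ`, and the product over `G ⧸ H` is the
transfer.
-/

set_option autoImplicit false

namespace Cfsg.Agent.H334.Cocycle

open scoped Pointwise

/-- the orbit of `y` under the subgroup `E`, as a finset -/
noncomputable def orb {K Y : Type*} [Group K] [MulAction K Y] [Finite Y] (E : Subgroup K) (y : Y) :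
    Finset Y := (Set.toFinite {x | ∃ e ∈ E, e • y = x}).toFinset

section

variable {K Y B : Type*} [Group K] [MulAction K Y] [Finite Y] [CommGroup B]

theorem mem_orb {E : Subgroup K} {y x : Y} : x ∈ orb E y ↔ ∃ e ∈ E, e • y = x := by
  simp [orb]

theorem self_mem_orb (E : Subgroup K) (y : Y) : y ∈ orb E y := mem_orb.2 ⟨1, one_mem _, one_smul _ _⟩

theorem orb_smul (E : Subgroup K) {e : K} (he : e ∈ E) (y : Y) : orb E (e • y) = orb E y := by
  ext x
  rw [mem_orb, mem_orb]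
  constructor
  · rintro ⟨k, hk, rfl⟩
    exact ⟨k * e, mul_mem hk he, by rw [mul_smul]⟩
  · rintro ⟨k, hk, rfl⟩
    exact ⟨k * e⁻¹, mul_mem hk (inv_mem he), by rw [mul_smul, inv_smul_smul]⟩

theorem orb_eq_of_mem {E : Subgroup K} {y x : Y} (h : x ∈ orb E y) : orb E x = orb E y := by
  obtain ⟨e, he, rfl⟩ := mem_orb.1 h
  exact orb_smul E he y

variable {N : K → Y → B} (hN : ∀ g h y, N (g * h) y = N g (h • y) * N h y)

include hN in
omit [Finite Y] in
theorem one_eq (y : Y) : N 1 y = 1 := by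
  have h := hN 1 1 y
  rw [mul_one, one_smul] at h
  exact left_eq_mul.mp h

/-- `N` is a coboundary on the orbit if it is trivial on a point stabilizer; hence the product over
the orbit is the power of a constant for every element normalising the group. -/
theorem prod_orb_eq_one (hN : ∀ g h y, N (g * h) y = N g (h • y) * N h y)
    (h2 : ∀ g y, N g y ^ 2 = 1) (E : Subgroup K) (x₀ : Y)
    (hst : ∀ e ∈ E, e • x₀ = x₀ → N e x₀ = 1) (heven : Even (orb E x₀).card) (m : K)
    (hm : ∀ e ∈ E, m * e * m⁻¹ ∈ E) (hmx : m • x₀ ∈ orb E x₀) :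
    ∏ x ∈ orb E x₀, N m x = 1 := by
  classical
  let b : Y → B := fun x => if h : ∃ e ∈ E, e • x₀ = x then N h.choose x₀ else 1
  have hb : ∀ e ∈ E, b (e • x₀) = N e x₀ := by
    intro e he
    have hex : ∃ e' ∈ E, e' • x₀ = e • x₀ := ⟨e, he, rfl⟩
    have h1 : b (e • x₀) = N hex.choose x₀ := dif_pos hex
    rw [h1]
    obtain ⟨h3, h4⟩ := hex.choose_spec
    set c := hex.choose with hc
    have h5 : (c⁻¹ * e) • x₀ = x₀ := by rw [mul_smul, ← h4, inv_smul_smul]
    have h6 := hN c (c⁻¹ * e) x₀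
    rw [h5, hst _ (mul_mem (inv_mem h3) he) h5, mul_one, mul_inv_cancel_left] at h6
    exact h6.symm
  obtain ⟨e₁, he₁, hme₁⟩ := mem_orb.1 hmx
  have key : ∀ x ∈ orb E x₀, m • x ∈ orb E x₀ ∧
      N m x = b (m • x) * (b x)⁻¹ * (N m x₀ * (N e₁ x₀)⁻¹) := by
    intro x hx
    obtain ⟨e, he, rfl⟩ := mem_orb.1 hx
    have he' := hm e he
    set e' := m * e * m⁻¹ with hdef
    have h1 : m • e • x₀ = (e' * e₁) • x₀ := by
      rw [mul_smul, hme₁, ← mul_smul, ← mul_smul, hdef]
      congr 1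
      group
    refine ⟨?_, ?_⟩
    · rw [h1]
      exact mem_orb.2 ⟨_, mul_mem he' he₁, rfl⟩
    · rw [h1, hb _ (mul_mem he' he₁), hb e he]
      have h3 : N (m * e) x₀ = N m (e • x₀) * N e x₀ := hN m e x₀
      have h4 : m * e = e' * m := by rw [hdef]; group
      have h5 : N (e' * m) x₀ = N e' (m • x₀) * N m x₀ := hN e' m x₀
      have h6 : N (e' * e₁) x₀ = N e' (e₁ • x₀) * N e₁ x₀ := hN e' e₁ x₀
      rw [h4, h5, ← hme₁] at h3
      rw [h6]
      have h7 : N m (e • x₀) = N e' (e₁ • x₀) * N m x₀ * (N e x₀)⁻¹ := by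
        rw [h3, mul_inv_cancel_right]
      rw [h7]
      have h8 : N e₁ x₀ * (N e₁ x₀)⁻¹ = 1 := mul_inv_cancel _
      calc N e' (e₁ • x₀) * N m x₀ * (N e x₀)⁻¹
          = N e' (e₁ • x₀) * N m x₀ * (N e x₀)⁻¹ * (N e₁ x₀ * (N e₁ x₀)⁻¹) := by rw [h8, mul_one]
        _ = N e' (e₁ • x₀) * N e₁ x₀ * (N e x₀)⁻¹ * (N m x₀ * (N e₁ x₀)⁻¹) := by
            simp only [mul_assoc, mul_left_comm, mul_comm]
  have himg : (orb E x₀).image (fun x => m • x) = orb E x₀ := by
    apply Finset.eq_of_subset_of_card_le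
    · intro y hy
      obtain ⟨x, hx, rfl⟩ := Finset.mem_image.1 hy
      exact (key x hx).1
    · rw [Finset.card_image_of_injective _ (MulAction.injective m)]
  have hprod : ∏ x ∈ orb E x₀, b (m • x) = ∏ x ∈ orb E x₀, b x := by
    conv_rhs => rw [← himg]
    rw [Finset.prod_image (fun x _ y _ h => MulAction.injective m h)]
  rw [Finset.prod_congr rfl (fun x hx => (key x hx).2), Finset.prod_mul_distrib,
    Finset.prod_mul_distrib, hprod, Finset.prod_inv_distrib, mul_inv_cancel, one_mul,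
    Finset.prod_const]
  obtain ⟨r, hr⟩ := heven
  rw [hr, ← two_mul, pow_mul, mul_pow, inv_pow, h2, h2, inv_one, one_mul, one_pow]

omit [Finite Y] in
/-- If `N` is trivial on the point stabilizers then the product over an invariant finite set is
trivial. -/
theorem prod_eq_one (hN : ∀ g h y, N (g * h) y = N g (h • y) * N h y) (H : Subgroup K)
    (S : Finset Y) (hS : ∀ h ∈ H, ∀ y ∈ S, h • y ∈ S)
    (hst : ∀ y ∈ S, ∀ h ∈ H, h • y = y → N h y = 1) {h : K} (hh : h ∈ H) :
    ∏ y ∈ S, N h y = 1 := by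
  classical
  let R : Setoid Y := MulAction.orbitRel H Y
  let r : Y → Y := fun y => (Quotient.mk R y).out
  have hr : ∀ y, ∃ g ∈ H, g • r y = y := by
    intro y
    have h1 : R (r y) y := Quotient.mk_out y
    have h2 : R y (r y) := Setoid.symm h1
    obtain ⟨g, hg⟩ := (MulAction.orbitRel_apply).1 h2
    exact ⟨g, g.2, hg⟩
  have hrr : ∀ g ∈ H, ∀ y, r (g • y) = r y := by
    intro g hg y
    have h1 : Quotient.mk R (g • y) = Quotient.mk R y := by
      apply Quotient.sound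
      exact (MulAction.orbitRel_apply).2 ⟨⟨g, hg⟩, rfl⟩
    change (Quotient.mk R (g • y)).out = (Quotient.mk R y).out
    rw [h1]
  choose c hcH hc using hr
  let b : Y → B := fun y => N (c y) (r y)
  have key : ∀ y ∈ S, N h y = b (h • y) * (b y)⁻¹ := by
    intro y hy
    have hrS : r y ∈ S := by
      have : r y = (c y)⁻¹ • y := by
        rw [eq_inv_smul_iff]; exact hc y
      rw [this]
      exact hS _ (inv_mem (hcH y)) y hy
    have h1 : N (h * c y) (r y) = N h (c y • r y) * N (c y) (r y) := hN _ _ _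
    rw [hc y] at h1
    have hbh : b (h • y) = N (c (h • y)) (r y) := by
      change N (c (h • y)) (r (h • y)) = _
      rw [hrr h hh]
    have hch : c (h • y) • r y = h • y := by
      have := hc (h • y)
      rwa [hrr h hh] at this
    have h3 : ((c (h • y))⁻¹ * (h * c y)) • r y = r y := by
      rw [mul_smul, mul_smul, hc y, inv_smul_eq_iff]
      exact hch.symm
    have h4 := hN (c (h • y)) ((c (h • y))⁻¹ * (h * c y)) (r y)
    rw [h3, hst (r y) hrS _ (mul_mem (inv_mem (hcH _)) (mul_mem hh (hcH _))) h3, mul_one,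
      mul_inv_cancel_left] at h4
    rw [hbh, ← h4, h1]
    change N h y = N h y * N (c y) (r y) * (N (c y) (r y))⁻¹
    rw [mul_inv_cancel_right]
  have himg : S.image (fun x => h • x) = S := by
    apply Finset.eq_of_subset_of_card_le
    · intro y hy
      obtain ⟨x, hx, rfl⟩ := Finset.mem_image.1 hy
      exact hS h hh x hx
    · rw [Finset.card_image_of_injective _ (MulAction.injective h)]
  have hprod : ∏ x ∈ S, b (h • x) = ∏ x ∈ S, b x := by
    conv_rhs => rw [← himg]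
    rw [Finset.prod_image (fun x _ y _ h' => MulAction.injective h h')]
  rw [Finset.prod_congr rfl key, Finset.prod_mul_distrib, hprod, Finset.prod_inv_distrib,
    mul_inv_cancel]

omit [Finite Y] in
/-- the pushforward of a cocycle to finsets -/
theorem prod_mul_eq [DecidableEq Y] {F : K → Y → B} (hF : ∀ g h y, F (g * h) y = F g (h • y) * F h y)
    (g h : K) (s : Finset Y) :
    ∏ y ∈ s, F (g * h) y = (∏ y ∈ h • s, F g y) * ∏ y ∈ s, F h y := by
  have h1 : ∏ y ∈ h • s, F g y = ∏ y ∈ s, F g (h • y) := by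
    rw [Finset.smul_finset_def, Finset.prod_image (fun x _ y _ h' => MulAction.injective h h')]
  rw [h1, ← Finset.prod_mul_distrib]
  exact Finset.prod_congr rfl (fun y _ => hF g h y)

theorem smul_orb [DecidableEq Y] (E : Subgroup K) (g : K) (hg : ∀ e ∈ E, g * e * g⁻¹ ∈ E)
    (hg' : ∀ e ∈ E, g⁻¹ * e * g ∈ E) (y : Y) : g • orb E y = orb E (g • y) := by
  ext x
  rw [Finset.mem_smul_finset]
  constructor
  · rintro ⟨w, hw, rfl⟩
    obtain ⟨e, he, rfl⟩ := mem_orb.1 hw
    refine mem_orb.2 ⟨g * e * g⁻¹, hg e he, ?_⟩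
    rw [← mul_smul, ← mul_smul]
    congr 1
    group
  · intro hx
    obtain ⟨e, he, rfl⟩ := mem_orb.1 hx
    refine ⟨(g⁻¹ * e * g) • y, mem_orb.2 ⟨_, hg' e he, rfl⟩, ?_⟩
    rw [← mul_smul, ← mul_smul]
    congr 1
    group

/-- the orbit of a 2-group is a point or has even length -/
theorem even_card_orb (E : Subgroup K) (hE : IsPGroup 2 E) (y : Y) {e : K} (he : e ∈ E)
    (hne : e • y ≠ y) : Even (orb E y).card := by
  have : Fact (Nat.Prime 2) := ⟨Nat.prime_two⟩
  have h1 : (orb E y : Set Y) = MulAction.orbit E y := by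
    ext x
    rw [Finset.mem_coe, mem_orb, MulAction.mem_orbit_iff]
    constructor
    · rintro ⟨k, hk, rfl⟩; exact ⟨⟨k, hk⟩, rfl⟩
    · rintro ⟨k, rfl⟩; exact ⟨k, k.2, rfl⟩
  obtain ⟨n, hn⟩ := hE.card_orbit y
  have h3 : (orb E y).card = 2 ^ n := by
    rw [← hn, ← h1]
    exact (Set.ncard_coe_finset (orb E y)).symm
  rw [h3]
  rw [Nat.even_pow]
  refine ⟨even_two, ?_⟩
  rintro rfl
  rw [pow_zero, Finset.card_eq_one] at h3
  obtain ⟨x, hx⟩ := h3
  have h4 : y ∈ orb E y := self_mem_orb E y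
  have h5 : e • y ∈ orb E y := mem_orb.2 ⟨e, he, rfl⟩
  rw [hx, Finset.mem_singleton] at h4 h5
  exact hne (h5.trans h4.symm)

end

/-- Existence of the cocycle on `G ⧸ H` extending `φ`. -/
theorem exists_cocycle {G B : Type*} [Group G] [CommGroup B] (H : Subgroup G) (φ : H →* B) :
    ∃ f : G → G ⧸ H → B, (∀ g h ω, f (g * h) ω = f g (h • ω) * f h ω) ∧
      ∀ h : H, f h ((1 : G) : G ⧸ H) = φ h := by
  classical
  let s : G ⧸ H → G := fun ω => ω.out
  have hs : ∀ ω, ((s ω : G) : G ⧸ H) = ω := fun ω => QuotientGroup.out_eq' ω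
  have hmem : ∀ (g : G) (ω : G ⧸ H), (s (g • ω))⁻¹ * g * s ω ∈ H := by
    intro g ω
    rw [mul_assoc, ← QuotientGroup.eq, hs]
    rw [← smul_eq_mul, ← MulAction.Quotient.smul_coe, hs]
  refine ⟨fun g ω => φ ⟨(s (g • ω))⁻¹ * g * s ω, hmem g ω⟩, ?_, ?_⟩
  · intro g h ω
    change φ ⟨(s ((g * h) • ω))⁻¹ * (g * h) * s ω, hmem (g * h) ω⟩ =
      φ ⟨(s (g • h • ω))⁻¹ * g * s (h • ω), hmem g (h • ω)⟩ * φ ⟨(s (h • ω))⁻¹ * h * s ω, hmem h ω⟩
    rw [← map_mul]
    congr 1
    apply Subtype.ext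
    change (s ((g * h) • ω))⁻¹ * (g * h) * s ω =
      ((s (g • h • ω))⁻¹ * g * s (h • ω)) * ((s (h • ω))⁻¹ * h * s ω)
    rw [mul_smul]
    group
  · intro h
    have h1 : (h : G) • ((1 : G) : G ⧸ H) = ((1 : G) : G ⧸ H) := by
      rw [MulAction.Quotient.smul_coe, smul_eq_mul, mul_one, QuotientGroup.eq]
      simp
    have h2 : s ((1 : G) : G ⧸ H) ∈ H := by
      have := hs ((1 : G) : G ⧸ H)
      rw [QuotientGroup.eq] at this
      simpa using this
    have h3 : (⟨(s ((h : G) • ((1 : G) : G ⧸ H)))⁻¹ * h * s ((1 : G) : G ⧸ H), hmem h _⟩ : H) =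
        (⟨_, h2⟩ : H)⁻¹ * h * ⟨_, h2⟩ := by
      apply Subtype.ext
      change (s ((h : G) • ((1 : G) : G ⧸ H)))⁻¹ * h * s ((1 : G) : G ⧸ H) = _
      rw [h1]
      rfl
    change φ ⟨(s ((h : G) • ((1 : G) : G ⧸ H)))⁻¹ * h * s ((1 : G) : G ⧸ H), hmem h _⟩ = φ h
    rw [h3, map_mul, map_mul, map_inv, mul_comm, mul_inv_cancel_left]

end Cfsg.Agent.H334.Cocycle
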