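import Mathlib
import Cfsg.Agent.Lib.ClassTwoDuality

/-!
# Involutions acting on a large extraspecial 2-subgroup

`E ⊴ C_G(z)` extraspecial with centre `⟨z⟩` and `C_G(E) ≤ E`, `y ≠ z` an involution: there is a proper
subgroup `W` of `E` containing `z` and `C_E(y)` and invariant under `C_G(z) ∩ C_G(y)` with suitable
transfer properties.
-/

set_option autoImplicit false

namespace Cfsg.Agent.H334.LargeExtra

open Subgroup

variable {G : Type*} [Group G]

/-- the hypotheses on `z` and `E` -/
structure Setup (z : G) (E : Subgroup G) : Prop where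
  zE : z ∈ E
  z1 : z ≠ 1
  z2 : z * z = 1
  cz : ∀ e ∈ E, e * z = z * e
  nrm : ∀ h, h * z = z * h → ∀ e ∈ E, h * e * h⁻¹ ∈ E
  comm : ∀ a ∈ E, ∀ b ∈ E, a * b * a⁻¹ * b⁻¹ = 1 ∨ a * b * a⁻¹ * b⁻¹ = z
  cen : ∀ x ∈ E, (∀ y ∈ E, x * y = y * x) → x = 1 ∨ x = z
  self : ∀ g, (∀ e ∈ E, g * e = e * g) → g ∈ E
  nonab : ∃ a ∈ E, ∃ b ∈ E, a * b ≠ b * a
  two : IsPGroup 2 E
  cc : commutator ↥E ≤ center ↥E
  cyc : IsCyclic (center ↥E)

variable {z : G} {E : Subgroup G}

theorem Setup.conj (h : Setup z E) {a b : G} (ha : a ∈ E) (hb : b ∈ E) :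
    a * b * a⁻¹ = b ∨ a * b * a⁻¹ = z * b := by
  rcases h.comm a ha b hb with h1 | h1
  · left; exact mul_inv_eq_one.mp h1
  · right; exact mul_inv_eq_iff_eq_mul.mp h1

theorem Setup.sq (h : Setup z E) {x : G} (hx : x ∈ E) : x * x = 1 ∨ x * x = z := by
  apply h.cen _ (mul_mem hx hx)
  intro y hy
  rcases h.conj hx hy with h1 | h1
  · have h2 : x * y = y * x := mul_inv_eq_iff_eq_mul.mp h1
    rw [mul_assoc, h2, ← mul_assoc, h2, mul_assoc]
  · have h2 : x * y = z * y * x := mul_inv_eq_iff_eq_mul.mp h1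
    calc x * x * y = x * (x * y) := mul_assoc _ _ _
      _ = x * z * (y * x) := by rw [h2]; group
      _ = z * (x * y) * x := by rw [h.cz x hx]; group
      _ = (z * z) * (y * (x * x)) := by rw [h2]; group
      _ = y * (x * x) := by rw [h.z2, one_mul]

theorem Setup.zinv (h : Setup z E) : z⁻¹ = z := inv_eq_of_mul_eq_one_right h.z2

section

variable {y : G} {B : Type*} [CommGroup B]

/-- the centralizer of `y` in `E` -/
def cE (E : Subgroup G) (y : G) : Subgroup G := E ⊓ centralizer {y}

theorem mem_cE {x : G} : x ∈ cE E y ↔ x ∈ E ∧ x * y = y * x := by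
  rw [cE, mem_inf, mem_centralizer_singleton_iff]

/-- the elements of `E` centralizing `y` modulo `z` -/
def wE (h : Setup z E) (_hzy : z * y = y * z) : Subgroup G where
  carrier := {x | x ∈ E ∧ (y * x * y⁻¹ = x ∨ y * x * y⁻¹ = x * z)}
  mul_mem' {a b} ha hb := by
    refine ⟨mul_mem ha.1 hb.1, ?_⟩
    have e : y * (a * b) * y⁻¹ = (y * a * y⁻¹) * (y * b * y⁻¹) := by group
    rw [e]
    rcases ha.2 with h1 | h1 <;> rcases hb.2 with h2 | h2 <;> rw [h1, h2]
    · exact Or.inl rfl
    · right; rw [mul_assoc]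
    · right; rw [mul_assoc, ← h.cz b hb.1, mul_assoc]
    · left
      rw [mul_assoc, ← mul_assoc z, ← h.cz b hb.1, mul_assoc b, h.z2, mul_one]
  one_mem' := ⟨one_mem _, Or.inl (by group)⟩
  inv_mem' {a} ha := by
    refine ⟨inv_mem ha.1, ?_⟩
    have e : y * a⁻¹ * y⁻¹ = (y * a * y⁻¹)⁻¹ := by group
    rw [e]
    rcases ha.2 with h1 | h1 <;> rw [h1]
    · exact Or.inl rfl
    · right
      rw [mul_inv_rev, h.zinv, h.cz _ (inv_mem ha.1)]

theorem mem_wE (h : Setup z E) (hzy : z * y = y * z) {x : G} :
    x ∈ wE h hzy ↔ x ∈ E ∧ (y * x * y⁻¹ = x ∨ y * x * y⁻¹ = x * z) := Iff.rfl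

/-- the subgroup `C_E(y) ⟨z⟩` -/
def uE (h : Setup z E) (y : G) : Subgroup G where
  carrier := {x | x ∈ E ∧ (x * y = y * x ∨ (x * z) * y = y * (x * z))}
  mul_mem' {a b} ha hb := by
    refine ⟨mul_mem ha.1 hb.1, ?_⟩
    have hbz := h.cz b hb.1
    rcases ha.2 with h1 | h1 <;> rcases hb.2 with h2 | h2
    · left; rw [mul_assoc, h2, ← mul_assoc, h1, mul_assoc]
    · right
      calc a * b * z * y = a * (b * z * y) := by group
        _ = (a * y) * (b * z) := by rw [h2]; group
        _ = y * (a * b * z) := by rw [h1]; group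
    · right
      calc a * b * z * y = a * (b * z) * y := by group
        _ = (a * z) * (b * y) := by rw [hbz]; group
        _ = (a * z * y) * b := by rw [h2]; group
        _ = y * (a * (z * b)) := by rw [h1]; group
        _ = y * (a * b * z) := by rw [← hbz]; group
    · left
      have e : a * b = (a * z) * (b * z) := by
        calc a * b = a * b * (z * z) := by rw [h.z2, mul_one]
          _ = a * (b * z) * z := by group
          _ = a * (z * b) * z := by rw [hbz]
          _ = (a * z) * (b * z) := by group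
      rw [e]
      calc a * z * (b * z) * y = (a * z) * (b * z * y) := by group
        _ = (a * z * y) * (b * z) := by rw [h2]; group
        _ = y * (a * z * (b * z)) := by rw [h1]; group
  one_mem' := ⟨one_mem _, Or.inl (by group)⟩
  inv_mem' {a} ha := by
    refine ⟨inv_mem ha.1, ?_⟩
    rcases ha.2 with h1 | h1
    · left
      have : Commute a y := h1
      exact this.inv_left
    · right
      have h2 : Commute (a * z) y := h1
      have h3 := h2.inv_left
      rw [mul_inv_rev, h.zinv, ← h.cz _ (inv_mem ha.1)] at h3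
      exact h3

theorem mem_uE (h : Setup z E) {x : G} :
    x ∈ uE h y ↔ x ∈ E ∧ (x * y = y * x ∨ (x * z) * y = y * (x * z)) := Iff.rfl

/-- the case where everything in `wE` commutes with `y` and `C_E(y)` is abelian: then `C_E(y)` has
exponent 2 -/
theorem duality [Finite G] (h : Setup z E) (hy2 : y * y = 1) (hzy : z * y = y * z)
    (hab : ∀ a ∈ cE E y, ∀ b ∈ cE E y, a * b = b * a)
    (hW : ∀ x ∈ wE h hzy, x * y = y * x) {w : G} (hw : w ∈ cE E y) : w * w = 1 := by
  have hyi : y⁻¹ = y := inv_eq_of_mul_eq_one_right hy2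
  have hyE : ∀ e ∈ E, y * e * y⁻¹ ∈ E := h.nrm y hzy.symm
  let R : Subgroup ↥E :=
    { carrier := {x | (x : G) * y = y * x ∧ (x : G) * x = 1}
      mul_mem' := by
        intro a b ha hb
        have h1 := hab a (mem_cE.2 ⟨a.2, ha.1⟩) b (mem_cE.2 ⟨b.2, hb.1⟩)
        refine ⟨?_, ?_⟩
        · change (a : G) * b * y = y * (a * b)
          rw [mul_assoc, hb.1, ← mul_assoc, ha.1, mul_assoc]
        · change (a : G) * b * (a * b) = 1
          calc (a : G) * b * (a * b) = a * (b * a) * b := by group
            _ = (a * a) * (b * b) := by rw [← h1]; group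
            _ = 1 := by rw [ha.2, hb.2, one_mul]
      one_mem' := ⟨by simp, by simp⟩
      inv_mem' := by
        intro a ha
        refine ⟨?_, ?_⟩
        · have h1 : Commute (a : G) y := ha.1
          exact h1.inv_left
        · change (a : G)⁻¹ * (a : G)⁻¹ = 1
          rw [← mul_inv_rev, ha.2, inv_one] }
  have hmemR : ∀ x : ↥E, x ∈ R ↔ (x : G) * y = y * x ∧ (x : G) * x = 1 := fun x => Iff.rfl
  have hcR : center ↥E ≤ R := by
    intro x hx
    rw [mem_center_iff] at hx
    have h1 := h.cen x x.2 (fun g hg => (congrArg Subtype.val (hx ⟨g, hg⟩)).symm)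
    rw [hmemR]
    rcases h1 with h1 | h1 <;> rw [h1]
    · simp
    · exact ⟨hzy, h.z2⟩
  -- elements `ρ(e)`
  have hρ : ∀ e (he : e ∈ E), (⟨e⁻¹ * (y * e * y⁻¹), mul_mem (inv_mem he) (hyE e he)⟩ : ↥E) ∈ R := by
    intro e he
    set r : G := e⁻¹ * (y * e * y⁻¹) with hr
    have hrE : r ∈ E := mul_mem (inv_mem he) (hyE e he)
    have h1 : y * r * y⁻¹ = r⁻¹ := by
      rw [hr, hyi]
      calc y * (e⁻¹ * (y * e * y)) * y = y * e⁻¹ * y * e * (y * y) := by group
        _ = y * e⁻¹ * y * e := by rw [hy2, mul_one]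
        _ = y⁻¹ * e⁻¹ * y⁻¹ * e := by rw [hyi]
        _ = (e⁻¹ * (y * e * y))⁻¹ := by group
    have h2 : r * r = 1 ∨ r * r = z := h.sq hrE
    have hrW : r ∈ wE h hzy := by
      rw [mem_wE]
      refine ⟨hrE, ?_⟩
      rw [h1]
      rcases h2 with h2 | h2
      · left; exact inv_eq_of_mul_eq_one_right h2
      · right
        rw [inv_eq_iff_mul_eq_one, ← mul_assoc, h2, h.z2]
    have h3 := hW r hrW
    rw [hmemR]
    refine ⟨h3, ?_⟩
    have h4 : y * r * y⁻¹ = r := by rw [← h3, mul_inv_cancel_right]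
    rw [h4] at h1
    change r * r = 1
    nth_rewrite 2 [h1]
    exact mul_inv_cancel r
  -- `C_E(R) ≤ C_E(y)`
  have hCR : ∀ x : ↥E, x ∈ Subgroup.centralizer (R : Set ↥E) → (x : G) ∈ cE E y := by
    intro x hx
    rw [mem_cE]
    refine ⟨x.2, hW x ?_⟩
    rw [mem_wE]
    refine ⟨x.2, ?_⟩
    have h5 : (x : G)⁻¹ * (y * x * y⁻¹) = 1 ∨ (x : G)⁻¹ * (y * x * y⁻¹) = z := by
      apply h.cen _ (mul_mem (inv_mem x.2) (hyE x x.2))
      intro e' he'
      -- `e' = y e y⁻¹`
      set e : G := y * e' * y⁻¹ with he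
      have heE : e ∈ E := hyE e' he'
      have hee : y * e * y⁻¹ = e' := by
        rw [he, hyi]
        calc y * (y * e' * y) * y = (y * y) * e' * (y * y) := by group
          _ = e' := by rw [hy2]; group
      have h6 := mem_centralizer_iff.mp hx _ (hρ e heE)
      have h7 : (e⁻¹ * (y * e * y⁻¹)) * (x : G) = x * (e⁻¹ * (y * e * y⁻¹)) := congrArg Subtype.val h6
      rw [hee] at h7
      -- `x e x⁻¹ = c e`, `x e' x⁻¹ = c' e'`
      have hmain : ∃ c, (c = 1 ∨ c = z) ∧ (x : G) * e' * (x : G)⁻¹ = c * e' ∧ (x : G) * e * (x : G)⁻¹ = c * e := by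
        have h8 : (x : G) * e' * (x : G)⁻¹ = ((x : G) * e * (x : G)⁻¹) * (e⁻¹ * e') := by
          have h9 : (x : G) * (e⁻¹ * e') * (x : G)⁻¹ = e⁻¹ * e' := by
            rw [← h7, mul_inv_cancel_right]
          calc (x : G) * e' * (x : G)⁻¹ = ((x : G) * e * (x : G)⁻¹) * ((x : G) * (e⁻¹ * e') * (x : G)⁻¹) := by group
            _ = _ := by rw [h9]
        rcases h.conj x.2 heE with h10 | h10
        · refine ⟨1, Or.inl rfl, ?_, ?_⟩
          · rw [h8, h10]; group
          · rw [h10, one_mul]
        · refine ⟨z, Or.inr rfl, ?_, ?_⟩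
          · rw [h8, h10]; group
          · rw [h10]
      obtain ⟨c, hc, h11, h12⟩ := hmain
      have hcy : y * c = c * y := by
        rcases hc with rfl | rfl
        · simp
        · exact hzy.symm
      have h13 : (y * (x : G) * y⁻¹) * e' * (y * (x : G) * y⁻¹)⁻¹ = c * e' := by
        calc (y * (x : G) * y⁻¹) * e' * (y * (x : G) * y⁻¹)⁻¹
            = (y * (x : G) * y⁻¹) * (y * e * y⁻¹) * (y * (x : G) * y⁻¹)⁻¹ := by rw [hee]
          _ = y * ((x : G) * e * (x : G)⁻¹) * y⁻¹ := by group
          _ = y * c * e * y⁻¹ := by rw [h12]; group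
          _ = c * (y * e * y⁻¹) := by rw [hcy]; group
          _ = c * e' := by rw [hee]
      have h14 : (x : G) * e' * (x : G)⁻¹ = (y * (x : G) * y⁻¹) * e' * (y * (x : G) * y⁻¹)⁻¹ := by
        rw [h11, h13]
      calc (x : G)⁻¹ * (y * x * y⁻¹) * e'
          = (x : G)⁻¹ * ((y * (x : G) * y⁻¹) * e' * (y * (x : G) * y⁻¹)⁻¹) * (y * x * y⁻¹) := by group
        _ = (x : G)⁻¹ * ((x : G) * e' * (x : G)⁻¹) * (y * x * y⁻¹) := by rw [h14]
        _ = e' * ((x : G)⁻¹ * (y * x * y⁻¹)) := by group
    rcases h5 with h5 | h5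
    · left; exact (inv_mul_eq_one.mp h5).symm
    · right; exact inv_mul_eq_iff_eq_mul.mp h5
  obtain ⟨hwE, hwy⟩ := mem_cE.1 hw
  have h15 : (⟨w, hwE⟩ : ↥E) ∈ R := by
    rw [← Cfsg.Agent.Lib.ClassTwoDuality.centralizer_centralizer_eq h.cc h.cyc R hcR]
    rw [mem_centralizer_iff]
    intro x hx
    apply Subtype.ext
    exact hab _ (hCR x hx) _ hw
  exact ((hmemR _).1 h15).2

theorem exists_W [Finite G] (h : Setup z E) (hy2 : y * y = 1) (hy1 : y ≠ 1) (hyz : y ≠ z)
    (χ : G → B) (hχ : ∀ a b, b * y = y * b → χ (a * b) = χ a * χ b) :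
    ∃ W : Subgroup G, W ≤ E ∧ W ≠ E ∧ z ∈ W ∧ (∀ e ∈ E, e * y = y * e → e ∈ W) ∧
      (∀ c, c * z = z * c → c * y = y * c → ∀ w ∈ W, c * w * c⁻¹ ∈ W) ∧
      ((∀ w ∈ W, w * w = 1) ∨ (∀ w ∈ W, w * y = y * w ∧ χ (w * w) = 1) ∨
        (z * y = y * z ∧ ∃ w ∈ W, w * y ≠ y * w)) := by
  have hχ1 : χ 1 = 1 := by
    have h1 := hχ 1 1 (by simp)
    rw [mul_one] at h1
    exact left_eq_mul.mp h1
  have hyE' : (∀ e ∈ E, y * e = e * y) → False := by
    intro h1
    have h3 := h.self y h1
    rcases h.cen y h3 h1 with h4 | h4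
    · exact hy1 h4
    · exact hyz h4
  by_cases hzy : z * y = y * z
  · by_cases hA : ∀ a ∈ E, a * y = y * a → χ (a * a) = 1
    · refine ⟨cE E y, inf_le_left, ?_, mem_cE.2 ⟨h.zE, hzy⟩, fun e he hey => mem_cE.2 ⟨he, hey⟩, ?_,
        Or.inr (Or.inl ?_)⟩
      · intro hE
        apply hyE'
        intro e he
        rw [← hE] at he
        exact (mem_cE.1 he).2.symm
      · intro c hcz hcy w hw
        obtain ⟨hwE, hwy⟩ := mem_cE.1 hw
        refine mem_cE.2 ⟨h.nrm c hcz w hwE, ?_⟩
        have h1 : Commute c y := hcy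
        have h3 : Commute w y := hwy
        exact ((h1.mul_left h3).mul_left h1.inv_left)
      · intro w hw
        obtain ⟨hwE, hwy⟩ := mem_cE.1 hw
        exact ⟨hwy, hA w hwE hwy⟩
    · push Not at hA
      obtain ⟨w, hwE, hwy, hwχ⟩ := hA
      have hwz : w * w = z := by
        rcases h.sq hwE with h1 | h1
        · rw [h1, hχ1] at hwχ; exact absurd rfl hwχ
        · exact h1
      have hχz : χ z ≠ 1 := by rwa [hwz] at hwχ
      have hχinv : ∀ a, a * y = y * a → χ a⁻¹ = (χ a)⁻¹ := by
        intro a ha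
        have h1 := hχ a⁻¹ a ha
        rw [inv_mul_cancel, hχ1] at h1
        exact eq_inv_of_mul_eq_one_left h1.symm
      have hab : ∀ a ∈ cE E y, ∀ b ∈ cE E y, a * b = b * a := by
        intro a ha b hb
        obtain ⟨haE, hay⟩ := mem_cE.1 ha
        obtain ⟨hbE, hby⟩ := mem_cE.1 hb
        rcases h.comm a haE b hbE with h1 | h1
        · have h3 : a * b * a⁻¹ = b := mul_inv_eq_one.mp h1
          exact mul_inv_eq_iff_eq_mul.mp h3
        · exfalso
          apply hχz
          have hay' : a⁻¹ * y = y * a⁻¹ := (Commute.inv_left (show Commute a y from hay))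
          have hby' : b⁻¹ * y = y * b⁻¹ := (Commute.inv_left (show Commute b y from hby))
          rw [← h1, hχ _ _ hby', hχ _ _ hay', hχ _ _ hby, hχinv a hay, hχinv b hby]
          rw [mul_comm (χ a), mul_assoc, mul_assoc, mul_inv_cancel_left, mul_inv_cancel]
      refine ⟨wE h hzy, fun x hx => hx.1, ?_, ?_, ?_, ?_, Or.inr (Or.inr ⟨hzy, ?_⟩)⟩
      · -- `W ≠ E`
        intro hWE
        have hall : ∀ e ∈ E, y * e * y⁻¹ = e ∨ y * e * y⁻¹ = e * z := by
          intro e he
          rw [← hWE] at he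
          exact he.2
        obtain ⟨e₁, he₁, hne₁⟩ : ∃ e ∈ E, ¬ y * e = e * y := by
          by_contra hcon
          push Not at hcon
          exact hyE' hcon
        have hne : ∀ e ∈ E, e * y = y * e ∨ y * e * y⁻¹ = e * z := by
          intro e he
          rcases hall e he with h1 | h1
          · left; exact (mul_inv_eq_iff_eq_mul.mp h1).symm
          · right; exact h1
        have h1 : y * e₁ * y⁻¹ = e₁ * z := by
          rcases hne e₁ he₁ with h1 | h1
          · exact absurd h1.symm hne₁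
          · exact h1
        -- `w` does not commute with `e₁`
        have hwe₁ : w * e₁ * w⁻¹ = z * e₁ := by
          rcases h.conj hwE he₁ with h3 | h3
          · exfalso
            have h4 : w * e₁ = e₁ * w := mul_inv_eq_iff_eq_mul.mp h3
            have h5 : w = 1 ∨ w = z := by
              apply h.cen w hwE
              intro x hx
              rcases hne x hx with h6 | h6
              · exact hab w (mem_cE.2 ⟨hwE, hwy⟩) x (mem_cE.2 ⟨hx, h6⟩)
              · -- `e₁ x` commutes with `y`
                have h7 : (e₁ * x) * y = y * (e₁ * x) := by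
                  have h8 : y * (e₁ * x) * y⁻¹ = e₁ * x := by
                    calc y * (e₁ * x) * y⁻¹ = (y * e₁ * y⁻¹) * (y * x * y⁻¹) := by group
                      _ = e₁ * (z * x) * z := by rw [h1, h6]; group
                      _ = e₁ * x * (z * z) := by rw [← h.cz x hx]; group
                      _ = e₁ * x := by rw [h.z2, mul_one]
                  exact (mul_inv_eq_iff_eq_mul.mp h8).symm
                have h9 := hab w (mem_cE.2 ⟨hwE, hwy⟩) (e₁ * x) (mem_cE.2 ⟨mul_mem he₁ hx, h7⟩)
                -- cancel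
                have h10 : e₁ * (w * x) = e₁ * (x * w) := by
                  calc e₁ * (w * x) = (e₁ * w) * x := by group
                    _ = w * (e₁ * x) := by rw [← h4]; group
                    _ = e₁ * (x * w) := by rw [h9]; group
                exact mul_left_cancel h10
            rcases h5 with h5 | h5
            · rw [h5, mul_one] at hwz; exact h.z1 hwz.symm
            · rw [h5, h.z2] at hwz; exact h.z1 hwz.symm
          · exact h3
        -- `w⁻¹ y` centralizes `E`
        have h2 : ∀ x ∈ E, (w⁻¹ * y) * x = x * (w⁻¹ * y) := by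
          -- first for `C_E(y)` and `e₁`
          have hc1 : ∀ x ∈ cE E y, Commute (w⁻¹ * y) x := by
            intro x hx
            have h3 : Commute w x := hab w (mem_cE.2 ⟨hwE, hwy⟩) x hx
            have h4 : Commute y x := (mem_cE.1 hx).2.symm
            exact h3.inv_left.mul_left h4
          have hc2 : Commute (w⁻¹ * y) e₁ := by
            have h3 : w⁻¹ * (z * e₁) * w = e₁ := by rw [← hwe₁]; group
            have h4 : (w⁻¹ * y) * e₁ * (w⁻¹ * y)⁻¹ = e₁ := by
              calc (w⁻¹ * y) * e₁ * (w⁻¹ * y)⁻¹ = w⁻¹ * (y * e₁ * y⁻¹) * w := by group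
                _ = w⁻¹ * (z * e₁) * w := by rw [h1, h.cz e₁ he₁]
                _ = e₁ := h3
            exact mul_inv_eq_iff_eq_mul.mp h4
          intro x hx
          rcases hne x hx with h6 | h6
          · exact hc1 x (mem_cE.2 ⟨hx, h6⟩)
          · have h7 : (e₁ * x) * y = y * (e₁ * x) := by
              have h8 : y * (e₁ * x) * y⁻¹ = e₁ * x := by
                calc y * (e₁ * x) * y⁻¹ = (y * e₁ * y⁻¹) * (y * x * y⁻¹) := by group
                  _ = e₁ * (z * x) * z := by rw [h1, h6]; group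
                  _ = e₁ * x * (z * z) := by rw [← h.cz x hx]; group
                  _ = e₁ * x := by rw [h.z2, mul_one]
              exact (mul_inv_eq_iff_eq_mul.mp h8).symm
            have h9 := hc1 (e₁ * x) (mem_cE.2 ⟨mul_mem he₁ hx, h7⟩)
            have h10 := hc2.inv_right.mul_right h9
            rw [inv_mul_cancel_left] at h10
            exact h10
        have h3 := h.self _ h2
        have h4 : w⁻¹ * y = 1 ∨ w⁻¹ * y = z := h.cen _ h3 h2
        have h5 : y = w ∨ y = w * z := by
          rcases h4 with h4 | h4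
          · left; exact (inv_mul_eq_one.mp h4).symm
          · right; exact inv_mul_eq_iff_eq_mul.mp h4
        rcases h5 with h5 | h5
        · rw [h5, hwz] at hy2; exact h.z1 hy2
        · rw [h5] at hy2
          have h6 : w * z * (w * z) = z := by
            calc w * z * (w * z) = w * (z * w) * z := by group
              _ = (w * w) * (z * z) := by rw [← h.cz w hwE]; group
              _ = z := by rw [h.z2, hwz, mul_one]
          rw [h6] at hy2
          exact h.z1 hy2
      · rw [mem_wE]
        refine ⟨h.zE, Or.inl ?_⟩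
        rw [← hzy, mul_inv_cancel_right]
      · intro e he hey
        rw [mem_wE]
        refine ⟨he, Or.inl ?_⟩
        rw [← hey, mul_inv_cancel_right]
      · intro c hcz hcy w' hw'
        rw [mem_wE] at hw' ⊢
        refine ⟨h.nrm c hcz w' hw'.1, ?_⟩
        have e : y * (c * w' * c⁻¹) * y⁻¹ = c * (y * w' * y⁻¹) * c⁻¹ := by
          calc y * (c * w' * c⁻¹) * y⁻¹ = (y * c) * w' * (y * c)⁻¹ := by group
            _ = (c * y) * w' * (c * y)⁻¹ := by rw [← hcy]
            _ = c * (y * w' * y⁻¹) * c⁻¹ := by group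
        rw [e]
        rcases hw'.2 with h1 | h1
        · left; rw [h1]
        · right; rw [h1]
          have hcz' : z * c⁻¹ = c⁻¹ * z := (Commute.inv_right (show Commute z c from hcz.symm))
          calc c * (w' * z) * c⁻¹ = c * w' * (z * c⁻¹) := by group
            _ = c * w' * c⁻¹ * z := by rw [hcz']; group
      · by_contra hcon
        push Not at hcon
        have h1 := duality h hy2 hzy hab hcon (mem_cE.2 ⟨hwE, hwy⟩)
        rw [hwz] at h1
        exact h.z1 h1
  · -- `z` does not commute with `y`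
    have hex : ∀ w ∈ uE h y, w * w = 1 := by
      intro w hw
      obtain ⟨hwE, h1⟩ := (mem_uE h).1 hw
      rcases h.sq hwE with h3 | h3
      · exact h3
      · exfalso
        apply hzy
        rcases h1 with h1 | h1
        · have h4 : Commute w y := h1
          have h5 : Commute (w * w) y := h4.mul_left h4
          rw [h3] at h5
          exact h5
        · have h4 : Commute (w * z) y := h1
          have h5 : Commute ((w * z) * (w * z)) y := h4.mul_left h4
          have h6 : w * z * (w * z) = z := by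
            calc w * z * (w * z) = w * (z * w) * z := by group
              _ = (w * w) * (z * z) := by rw [← h.cz w hwE]; group
              _ = z := by rw [h.z2, h3, mul_one]
          rw [h6] at h5
          exact h5
    refine ⟨uE h y, fun x hx => hx.1, ?_, ?_, ?_, ?_, Or.inl hex⟩
    · intro hWE
      obtain ⟨a, ha, b, hb, hne⟩ := h.nonab
      apply hne
      have h1 := hex a (by rw [hWE]; exact ha)
      have h3 := hex b (by rw [hWE]; exact hb)
      have h4 := hex (a * b) (by rw [hWE]; exact mul_mem ha hb)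
      calc a * b = a * (a * b * (a * b)) * b := by rw [h4, mul_one]
        _ = (a * a) * (b * a) * (b * b) := by group
        _ = b * a := by rw [h1, h3, one_mul, mul_one]
    · rw [mem_uE]
      refine ⟨h.zE, Or.inr ?_⟩
      rw [h.z2, one_mul, mul_one]
    · intro e he hey
      rw [mem_uE]
      exact ⟨he, Or.inl hey⟩
    · intro c hcz hcy w hw
      rw [mem_uE] at hw ⊢
      refine ⟨h.nrm c hcz w hw.1, ?_⟩
      have hcy' : Commute c y := hcy
      rcases hw.2 with h1 | h1
      · left
        have h3 : Commute w y := h1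
        exact (hcy'.mul_left h3).mul_left hcy'.inv_left
      · right
        have h3 : Commute (w * z) y := h1
        have h4 : c * w * c⁻¹ * z = c * (w * z) * c⁻¹ := by
          have hcz' : z * c⁻¹ = c⁻¹ * z := (Commute.inv_right (show Commute z c from hcz.symm))
          calc c * w * c⁻¹ * z = c * w * (c⁻¹ * z) := by group
            _ = c * (w * z) * c⁻¹ := by rw [← hcz']; group
        rw [h4]
        exact (hcy'.mul_left h3).mul_left hcy'.inv_left

end

end Cfsg.Agent.H334.LargeExtra
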