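import Mathlib
import Cfsg.Agent.H334.Cocycle
import Cfsg.Agent.H334.LargeExtra

/-!
# Transfer into the centralizer of an involution with a large extraspecial subgroup

If `E ⊴ H = C_G(z)` is a large extraspecial 2-subgroup and `G` has no nontrivial homomorphism to the
abelian group `B` of exponent dividing 4, then every homomorphism `φ : H → B` satisfies `φ ^ 2 = 1`.
-/

set_option autoImplicit false

namespace Cfsg.Agent.H334.LargeTransfer

open Subgroup Cfsg.Agent.H334.Cocycle Cfsg.Agent.H334.LargeExtra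
open scoped Pointwise

variable {G : Type*} [Group G] {z : G} {E : Subgroup G}

/-- the element whose centralizer is the stabilizer of `ω` -/
noncomputable def yy (z : G) (ω : G ⧸ centralizer ({z} : Set G)) : G := ω.out * z * (ω.out)⁻¹

theorem smul_eq_iff (ω : G ⧸ centralizer ({z} : Set G)) (x : G) :
    x • ω = ω ↔ x * yy z ω = yy z ω * x := by
  have h1 : ((ω.out : G) : G ⧸ centralizer ({z} : Set G)) = ω := QuotientGroup.out_eq' ω
  have h2 : x • ω = ω ↔ x • ((ω.out : G) : G ⧸ centralizer ({z} : Set G)) =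
      ((ω.out : G) : G ⧸ centralizer ({z} : Set G)) := by rw [h1]
  rw [h2, MulAction.Quotient.smul_coe, smul_eq_mul, eq_comm, QuotientGroup.eq,
    mem_centralizer_singleton_iff, yy]
  generalize (ω.out : G) = g
  constructor
  · intro h
    calc x * (g * z * g⁻¹) = g * ((g⁻¹ * (x * g)) * z) * g⁻¹ := by group
      _ = g * z * g⁻¹ * x := by rw [h]; group
  · intro h
    calc g⁻¹ * (x * g) * z = g⁻¹ * (x * (g * z * g⁻¹)) * g := by group
      _ = z * (g⁻¹ * (x * g)) := by rw [h]; group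

theorem yy_sq (h : Setup z E) (ω : G ⧸ centralizer ({z} : Set G)) : yy z ω * yy z ω = 1 := by
  rw [yy]
  calc ω.out * z * (ω.out)⁻¹ * (ω.out * z * (ω.out)⁻¹) = ω.out * (z * z) * (ω.out)⁻¹ := by group
    _ = 1 := by rw [h.z2]; group

theorem yy_ne_one (h : Setup z E) (ω : G ⧸ centralizer ({z} : Set G)) : yy z ω ≠ 1 := by
  rw [yy]
  intro h1
  apply h.z1
  calc z = (ω.out)⁻¹ * (ω.out * z * (ω.out)⁻¹) * ω.out := by group
    _ = 1 := by rw [h1]; group

theorem yy_ne (ω : G ⧸ centralizer ({z} : Set G))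
    (hω : ω ≠ ((1 : G) : G ⧸ centralizer ({z} : Set G))) : yy z ω ≠ z := by
  intro h1
  apply hω
  have h2 : ((ω.out : G) : G ⧸ centralizer ({z} : Set G)) = ω := QuotientGroup.out_eq' ω
  rw [← h2, eq_comm, QuotientGroup.eq, mem_centralizer_singleton_iff, inv_one, one_mul]
  rw [yy] at h1
  calc ω.out * z = (ω.out * z * (ω.out)⁻¹) * ω.out := by group
    _ = z * ω.out := by rw [h1]

/-- the local claim -/
theorem local_claim [Finite G] (h : Setup z E) {B : Type*} [CommGroup B] (hB : ∀ b : B, b ^ 4 = 1)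
    (f : G → G ⧸ centralizer ({z} : Set G) → B)
    (hf : ∀ g k ω, f (g * k) ω = f g (k • ω) * f k ω)
    (ω : G ⧸ centralizer ({z} : Set G)) (hω : ω ≠ ((1 : G) : G ⧸ centralizer ({z} : Set G)))
    (u : G) (hu : u * z = z * u) (huω : u • ω ∈ orb E ω) :
    ∏ ω' ∈ orb E ω, f u ω' ^ 2 = 1 := by
  classical
  have hone : ∀ ω, f 1 ω = 1 := one_eq hf
  obtain ⟨W, hWE, hWne, hzW, hAW, hcW, hcase⟩ := exists_W h (yy_sq h ω) (yy_ne_one h ω) (yy_ne ω hω)
    (fun a => f a ω) (fun a b hb => by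
      rw [hf, (smul_eq_iff ω b).2 hb])
  have hF : ∀ g k ω, f (g * k) ω ^ 2 = f g (k • ω) ^ 2 * f k ω ^ 2 := by
    intro g k ω; rw [hf, mul_pow]
  set x₀ : Finset (G ⧸ centralizer ({z} : Set G)) := orb W ω with hx₀
  let N : G → Finset (G ⧸ centralizer ({z} : Set G)) → B := fun g s => ∏ ω ∈ s, f g ω ^ 2
  have hN : ∀ g k s, N (g * k) s = N g (k • s) * N k s := fun g k s =>
    prod_mul_eq (F := fun g ω => f g ω ^ 2) hF g k s
  have hN2 : ∀ g s, N g s ^ 2 = 1 := by
    intro g s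
    change (∏ ω ∈ s, f g ω ^ 2) ^ 2 = 1
    rw [← Finset.prod_pow]
    exact Finset.prod_eq_one (fun ω _ => by rw [← pow_mul]; exact hB _)
  -- `E` normalizes `W`
  have hEW : ∀ e ∈ E, ∀ w ∈ W, e * w * e⁻¹ ∈ W := by
    intro e he w hw
    rcases h.conj he (hWE hw) with h1 | h1
    · rw [h1]; exact hw
    · rw [h1]; exact mul_mem hzW hw
  have hEW' : ∀ e ∈ E, ∀ w ∈ W, e⁻¹ * w * e ∈ W := by
    intro e he w hw
    have := hEW e⁻¹ (inv_mem he) w hw
    rwa [inv_inv] at this
  have hsm : ∀ e ∈ E, ∀ ω' : G ⧸ centralizer ({z} : Set G), e • orb W ω' = orb W (e • ω') := fun e he ω' =>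
    smul_orb W e (hEW e he) (hEW' e he) ω'
  -- regroup
  have hreg : ∏ ω' ∈ orb E ω, f u ω' ^ 2 = ∏ s ∈ orb E x₀, N u s := by
    rw [← Finset.prod_fiberwise_of_maps_to (s := orb E ω) (t := orb E x₀) (g := fun ω' => orb W ω')]
    · apply Finset.prod_congr rfl
      intro s hs
      obtain ⟨e, he, rfl⟩ := mem_orb.1 hs
      apply Finset.prod_congr _ (fun _ _ => rfl)
      rw [hx₀, hsm e he]
      ext ω'
      rw [Finset.mem_filter]
      constructor
      · rintro ⟨-, h1⟩
        rw [← h1]; exact self_mem_orb W ω'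
      · intro h1
        refine ⟨?_, orb_eq_of_mem h1⟩
        obtain ⟨w, hw, rfl⟩ := mem_orb.1 h1
        exact mem_orb.2 ⟨w * e, mul_mem (hWE hw) he, by rw [mul_smul]⟩
    · intro ω' hω'
      obtain ⟨e, he, rfl⟩ := mem_orb.1 hω'
      rw [← hsm e he]
      exact mem_orb.2 ⟨e, he, rfl⟩
  -- stabilizer
  have hstab : ∀ e ∈ E, e • x₀ = x₀ → e ∈ W := by
    intro e he hex
    have h1 : e • ω ∈ e • x₀ := Finset.smul_mem_smul_finset (self_mem_orb W ω)
    rw [hex] at h1
    obtain ⟨w, hw, hwe⟩ := mem_orb.1 h1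
    have h2 : (w⁻¹ * e) • ω = ω := by rw [mul_smul, ← hwe, inv_smul_smul]
    have h3 := hAW _ (mul_mem (inv_mem (hWE hw)) he) ((smul_eq_iff ω _).1 h2)
    have h4 := mul_mem hw h3
    rwa [mul_inv_cancel_left] at h4
  have hWtriv : ∀ w ∈ W, N w x₀ = 1 := by
    intro w hw
    have hwx : w • x₀ = x₀ := by rw [hx₀, hsm w (hWE hw), orb_smul W hw]
    have h1 : N w x₀ = ∏ ω' ∈ x₀, f (w * w) ω' := by
      have h2 : ∏ ω' ∈ x₀, f w ω' = ∏ ω' ∈ x₀, f w (w • ω') := by
        conv_lhs => rw [← hwx]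
        rw [Finset.smul_finset_def, Finset.prod_image (fun x _ y _ h' => MulAction.injective w h')]
      change ∏ ω' ∈ x₀, f w ω' ^ 2 = _
      calc ∏ ω' ∈ x₀, f w ω' ^ 2 = (∏ ω' ∈ x₀, f w ω') * ∏ ω' ∈ x₀, f w ω' := by
            rw [← Finset.prod_mul_distrib]
            exact Finset.prod_congr rfl (fun _ _ => sq _)
        _ = (∏ ω' ∈ x₀, f w (w • ω')) * ∏ ω' ∈ x₀, f w ω' := by rw [← h2]
        _ = ∏ ω' ∈ x₀, f (w * w) ω' := by
            rw [← Finset.prod_mul_distrib]
            exact Finset.prod_congr rfl (fun ω' _ => (hf w w ω').symm)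
    rw [h1]
    rcases hcase with hc | hc | ⟨hzy, w', hw', hw'y⟩
    · rw [hc w hw]
      exact Finset.prod_eq_one (fun ω' _ => hone ω')
    · apply Finset.prod_eq_one
      intro ω' hω'
      obtain ⟨k, hk, rfl⟩ := mem_orb.1 hω'
      rw [(smul_eq_iff ω k).2 (hc k hk).1]
      exact (hc w hw).2
    · rcases h.sq (hWE hw) with h2 | h2
      · rw [h2]
        exact Finset.prod_eq_one (fun ω' _ => hone ω')
      · rw [h2]
        have hzω : z • ω = ω := (smul_eq_iff ω z).2 hzy
        have hconst : ∀ ω' ∈ x₀, f z ω' = f z ω := by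
          intro ω' hω'
          obtain ⟨k, hk, rfl⟩ := mem_orb.1 hω'
          have h3 := hf z k ω
          have h4 := hf k z ω
          rw [h.cz k (hWE hk), h3, hzω, mul_comm (f k ω)] at h4
          exact mul_right_cancel h4
        rw [Finset.prod_congr rfl hconst, Finset.prod_const]
        have heven : Even x₀.card :=
          even_card_orb W (h.two.to_le hWE) ω hw' (fun h5 => hw'y ((smul_eq_iff ω w').1 h5))
        obtain ⟨r, hr⟩ := heven
        have hz2 : f z ω ^ 2 = 1 := by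
          have h3 := hf z z ω
          rw [h.z2, hone, hzω] at h3
          rw [sq, ← h3]
        rw [hr, ← two_mul, pow_mul, hz2, one_pow]
  rw [hreg]
  obtain ⟨e₀, he₀, hne₀⟩ : ∃ e ∈ E, e ∉ W := by
    by_contra hcon
    push Not at hcon
    exact hWne (le_antisymm hWE hcon)
  apply prod_orb_eq_one hN hN2 E x₀
  · intro e he hex
    exact hWtriv e (hstab e he hex)
  · exact even_card_orb E h.two x₀ he₀ (fun h1 => hne₀ (hstab e₀ he₀ h1))
  · exact h.nrm u hu
  · obtain ⟨e, he, heω⟩ := mem_orb.1 huω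
    set c := e⁻¹ * u with hc
    have hcω : c • ω = ω := by rw [hc, mul_smul, ← heω, inv_smul_smul]
    have hcy := (smul_eq_iff ω c).1 hcω
    have hez : Commute e z := h.cz e he
    have huz : Commute u z := hu
    have hcz : Commute c z := hez.inv_left.mul_left huz
    have hcW' := hcW c hcz hcy
    have hcy2 : Commute c (yy z ω) := hcy
    have hcW'' := hcW c⁻¹ hcz.inv_left hcy2.inv_left
    have h1 : c • x₀ = x₀ := by
      rw [hx₀, smul_orb W c hcW' (fun w hw => by
        have := hcW'' w hw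
        rwa [inv_inv] at this), hcω]
    have h2 : u = e * c := by rw [hc]; group
    rw [h2, mul_smul, h1]
    exact mem_orb.2 ⟨e, he, rfl⟩

theorem main [Finite G] (h : Setup z E) {B : Type*} [CommGroup B] (hB : ∀ b : B, b ^ 4 = 1)
    (hG : ∀ T : G →* B, T = 1) (φ : centralizer ({z} : Set G) →* B)
    (x : centralizer ({z} : Set G)) : φ x ^ 2 = 1 := by
  classical
  have : Fintype (G ⧸ centralizer ({z} : Set G)) := Fintype.ofFinite _
  obtain ⟨f, hf, hfφ⟩ := exists_cocycle (centralizer ({z} : Set G)) φ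
  -- the transfer
  let T : G →* B := MonoidHom.mk' (fun g => ∏ ω, f g ω) (by
    intro g k
    have h1 : ∏ ω, f g (k • ω) = ∏ ω, f g ω :=
      Equiv.prod_comp (MulAction.toPerm k) (fun ω => f g ω)
    change ∏ ω, f (g * k) ω = (∏ ω, f g ω) * ∏ ω, f k ω
    rw [← h1, ← Finset.prod_mul_distrib]
    exact Finset.prod_congr rfl (fun ω _ => hf g k ω))
  have hT : ∏ ω, f (x : G) ω = 1 := by
    have h1 := DFunLike.congr_fun (hG T) (x : G)
    exact h1
  have hT2 : ∏ ω, f (x : G) ω ^ 2 = 1 := by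
    rw [Finset.prod_pow, hT, one_pow]
  set ω₀ : G ⧸ centralizer ({z} : Set G) := ((1 : G) : G ⧸ centralizer ({z} : Set G)) with hω₀
  have hF : ∀ g k ω, f (g * k) ω ^ 2 = f g (k • ω) ^ 2 * f k ω ^ 2 := by
    intro g k ω; rw [hf, mul_pow]
  let N : G → Finset (G ⧸ centralizer ({z} : Set G)) → B := fun g s => ∏ ω ∈ s, f g ω ^ 2
  have hN : ∀ g k s, N (g * k) s = N g (k • s) * N k s := fun g k s =>
    prod_mul_eq (F := fun g ω => f g ω ^ 2) hF g k s
  have hHω : ∀ g ∈ centralizer ({z} : Set G), g • ω₀ = ω₀ := by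
    intro g hg
    rw [hω₀, MulAction.Quotient.smul_coe, smul_eq_mul, mul_one, eq_comm, QuotientGroup.eq, inv_one,
      one_mul]
    exact hg
  let S : Finset (G ⧸ centralizer ({z} : Set G)) := Finset.univ.erase ω₀
  have hS : ∀ g ∈ centralizer ({z} : Set G), ∀ ω ∈ S, g • ω ∈ S := by
    intro g hg ω hω
    have h1 : ω ≠ ω₀ := (Finset.mem_erase.1 hω).1
    refine Finset.mem_erase.2 ⟨?_, Finset.mem_univ _⟩
    intro h2
    apply h1
    rw [← hHω g hg] at h2
    exact MulAction.injective g h2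
  have hEH : E ≤ centralizer ({z} : Set G) := by
    intro e he
    rw [mem_centralizer_singleton_iff]
    exact h.cz e he
  have hsm : ∀ g ∈ centralizer ({z} : Set G), ∀ ω : G ⧸ centralizer ({z} : Set G),
      g • orb E ω = orb E (g • ω) := by
    intro g hg ω
    apply smul_orb
    · exact h.nrm g (mem_centralizer_singleton_iff.1 hg)
    · intro e he
      have := h.nrm g⁻¹ (mem_centralizer_singleton_iff.1 (inv_mem hg)) e he
      rwa [inv_inv] at this
  have hreg : ∏ ω ∈ S, f (x : G) ω ^ 2 = ∏ s ∈ S.image (fun ω => orb E ω), N x s := by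
    rw [← Finset.prod_fiberwise_of_maps_to (s := S) (t := S.image (fun ω => orb E ω))
      (g := fun ω' => orb E ω') (fun ω hω => Finset.mem_image_of_mem _ hω)]
    apply Finset.prod_congr rfl
    intro s hs
    obtain ⟨ω, hω, rfl⟩ := Finset.mem_image.1 hs
    apply Finset.prod_congr _ (fun _ _ => rfl)
    ext ω'
    rw [Finset.mem_filter]
    constructor
    · rintro ⟨-, h1⟩
      rw [← h1]; exact self_mem_orb E ω'
    · intro h1
      refine ⟨?_, orb_eq_of_mem h1⟩
      obtain ⟨w, hw, rfl⟩ := mem_orb.1 h1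
      exact hS w (hEH hw) ω hω
  have hmain : ∏ s ∈ S.image (fun ω => orb E ω), N x s = 1 := by
    apply prod_eq_one hN (centralizer ({z} : Set G)) _ _ _ x.2
    · intro g hg s hs
      obtain ⟨ω, hω, rfl⟩ := Finset.mem_image.1 hs
      rw [hsm g hg]
      exact Finset.mem_image_of_mem _ (hS g hg ω hω)
    · intro s hs g hg hgs
      obtain ⟨ω, hω, rfl⟩ := Finset.mem_image.1 hs
      have hω1 : ω ≠ ω₀ := (Finset.mem_erase.1 hω).1
      apply local_claim h hB f hf ω hω1 g (mem_centralizer_singleton_iff.1 hg)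
      rw [← hgs]
      exact Finset.smul_mem_smul_finset (self_mem_orb E ω)
  have hsplit : ∏ ω, f (x : G) ω ^ 2 = f (x : G) ω₀ ^ 2 * ∏ ω ∈ S, f (x : G) ω ^ 2 :=
    (Finset.mul_prod_erase Finset.univ (fun ω => f (x : G) ω ^ 2) (Finset.mem_univ ω₀)).symm
  rw [hsplit, hreg, hmain, mul_one, hω₀, hfφ] at hT2
  exact hT2

end Cfsg.Agent.H334.LargeTransfer
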