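import Cfsg.Agent.H334.ABRow
import Cfsg.Agent.H334.Symp.Fus
import Cfsg.Agent.H800.StrClosed
import Cfsg.Agent.S0000
import Cfsg.Agent.S1938

/-!
# S5325 for odd primes `≠ 13`, in particular for `p = 3`
-/

set_option autoImplicit false

open Subgroup

universe u

namespace Cfsg.Agent.H334

open Cfsg Cfsg.Agent.H795

/-- S5325 for the prime `p`, `p ≠ 2`, `p ≠ 13` -/
theorem scThm {p : ℕ} [hp : Fact p.Prime] (hp2 : p ≠ 2) (hp13 : p ≠ 13) : Symp.SCThm.{u} p := by
  intro Y _ _ A hA B hB
  refine H800.StrClosed.exists_normal (p := p) ?_ ?_ A hA B hB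
  · intro G _ _ S _ x hx hiso
    exact Cfsg.Agent.S1938.result S x hx hiso
  · intro G _ _ _ S hG hS B hB
    have hna : ¬ IsMulCommutative G := by
      intro h
      have h1 : commutator G = ⊥ := by
        rw [commutator_def, Subgroup.commutator_eq_bot_iff_le_centralizer]
        intro x _
        rw [mem_centralizer_iff]
        intro y _
        exact h.is_comm.comm y x
      rw [h1] at hG
      exact bot_ne_top hG
    have h := ABRow.abIrr_odd (p := p) hna Cfsg.Agent.S0000.result hp2 (fun h => hp13 h.1)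
    rcases h S hS.1 B hB.1 (fun b hb => hS.2 b (hB.1 hb)) (by
      intro n hn b hb
      exact hB.2 b hb n ((mem_normalizer_iff.1 hn b).1 (hB.1 hb))) with h1 | h1
    · exact Or.inl h1
    · exact Or.inr (le_antisymm hB.1 fun x hx => h1 x hx (hS.2 x hx))

theorem scThree : Symp.SCThm.{u} 3 := by
  have : Fact (Nat.Prime 3) := ⟨Nat.prime_three⟩
  exact scThm (by norm_num) (by norm_num)

end Cfsg.Agent.H334
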